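import Groth.Agent.WEt93.BaseChange
import Mathlib

/-!
# The largest weakly etale subalgebra commutes with extensions of the ground field: the general case
-/

set_option autoImplicit false
set_option linter.style.haveILetI false

universe u

open Polynomial TensorProduct

namespace Groth.Agent.WEt93

/-- Elements of `B ⊗ R` that satisfy a separable equation come from `R`, if `B` has no separable elements. -/
theorem mem_range_of_eval₂ {k : Type u} [Field k] {B : Type u} [CommRing B] [Algebra k B] [Nontrivial B]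
    (hB : sepElems k B = ⊥) {R : Type u} [CommRing R] [Algebra k R] [IsReduced R] {L : Type u} [Field L]
    (g : L →+* R) {f : L[X]} (hf : f.Separable) (w : B ⊗[k] R)
    (h : eval₂ (((Algebra.TensorProduct.includeRight : R →ₐ[k] B ⊗[k] R) : R →+* B ⊗[k] R).comp g) w f = 0) :
    ∃ c : R, w = 1 ⊗ₜ[k] c := by
  classical
  obtain ⟨φ, hφ⟩ := (Algebra.linearMap k B).exists_leftInverse_of_injective
    (LinearMap.ker_eq_bot.2 (algebraMap k B).injective)
  have hφ1 : φ 1 = 1 := by simpa using LinearMap.congr_fun hφ 1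
  let F : (B →ₗ[k] k) → B ⊗[k] R →ₗ[k] R := fun ψ => (TensorProduct.lid k R).toLinearMap.comp (ψ.rTensor R)
  refine ⟨F φ w, ?_⟩
  let b := Module.Free.chooseBasis k B
  have hcoord : ∀ (z : B ⊗[k] R) (i : _), TensorProduct.equivFinsuppOfBasisLeft b z i = F (b.coord i) z := by
    intro z i
    induction z using TensorProduct.induction_on with
    | zero => simp
    | tmul x r => simp [F]
    | add x y hx hy => simp only [map_add, Finsupp.add_apply, hx, hy]
  suffices H : ∀ ψ : B →ₗ[k] k, F ψ (w - 1 ⊗ₜ[k] F φ w) = 0 by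
    refine sub_eq_zero.1 ((TensorProduct.equivFinsuppOfBasisLeft b).injective ?_)
    ext i
    rw [hcoord, H, map_zero, Finsupp.zero_apply]
  intro ψ
  refine IsNilpotent.eq_zero (R := R) (mem_nilradical.1 ?_)
  rw [nilradical_eq_sInf]
  refine Ideal.mem_sInf.2 fun {P} hP => ?_
  haveI : P.IsPrime := hP
  let κ := P.ResidueField
  let π : R →ₐ[k] κ := IsScalarTower.toAlgHom k R κ
  let θ : B ⊗[k] R →ₐ[k] κ ⊗[k] B :=
    (Algebra.TensorProduct.comm k B κ).toAlgHom.comp (Algebra.TensorProduct.map (AlgHom.id k B) π)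
  let G : κ ⊗[k] B →ₗ[k] κ := (TensorProduct.rid k κ).toLinearMap.comp (ψ.lTensor κ)
  let G₀ : κ ⊗[k] B →ₗ[k] κ := (TensorProduct.rid k κ).toLinearMap.comp (φ.lTensor κ)
  have hnat : ∀ z, π (F ψ z) = G (θ z) := fun z => by
    induction z using TensorProduct.induction_on with
    | zero => simp
    | tmul x r => simp [F, G, θ, π]
    | add x y hx hy => simp only [map_add, hx, hy]
  have hnat₀ : ∀ z, π (F φ z) = G₀ (θ z) := fun z => by
    induction z using TensorProduct.induction_on with
    | zero => simp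
    | tmul x r => simp [F, G₀, θ, π]
    | add x y hx hy => simp only [map_add, hx, hy]
  have hsep : IsSeparable κ (θ w) := by
    refine Separable.of_dvd (f := f.map (π.toRingHom.comp g)) hf.map (minpoly.dvd κ _ ?_)
    rw [aeval_def, eval₂_map]
    have h1 := congrArg θ.toRingHom h
    rw [hom_eval₂, map_zero] at h1
    refine Eq.trans ?_ h1
    congr 1
  have hbot : θ w ∈ (⊥ : Subalgebra κ (κ ⊗[k] B)) := by
    rw [← sepElems_tensor_eq_bot hB κ]
    exact hsep
  obtain ⟨r, hr⟩ := Algebra.mem_bot.1 hbot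
  have hr' : r ⊗ₜ[k] (1 : B) = θ w := hr
  have hrφ : r = π (F φ w) := by
    rw [hnat₀, ← hr']
    simp [G₀, hφ1]
  have hzero : θ (w - 1 ⊗ₜ[k] F φ w) = 0 := by
    rw [map_sub, sub_eq_zero, ← hr', hrφ]
    simp [θ]
  have h2 : π (F ψ (w - 1 ⊗ₜ[k] F φ w)) = 0 := by rw [hnat, hzero, map_zero]
  exact Ideal.algebraMap_residueField_eq_zero.1 h2

/-- Base change of an algebra without separable elements over a separable extension `k` of `K`. -/
theorem mem_range_of_isSeparable {K : Type u} [Field K] (k : Type u) [Field k] [Algebra K k]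
    [Algebra.IsSeparable K k] {B : Type u} [CommRing B] [Nontrivial B] [Algebra K B] [Algebra k B]
    [IsScalarTower K k B] (hB : sepElems k B = ⊥) (L : Type u) [Field L] [Algebra K L] {y : L ⊗[K] B}
    (hy : IsSeparable L y) :
    y ∈ (Algebra.TensorProduct.map (AlgHom.id L L) (IsScalarTower.toAlgHom K k B) :
      L ⊗[K] k →ₐ[L] L ⊗[K] B).range := by
  haveI := weaklyEtale_of_isSeparable (K := K) k
  haveI : Algebra.WeaklyEtale L (L ⊗[K] k) := inferInstance
  haveI : IsReduced (L ⊗[K] k) := WEtLib.isReduced_of_forall_exists (WEtLib.exists_mul_eq (K := L))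
  haveI : IsReduced (k ⊗[K] L) :=
    isReduced_of_injective (Algebra.TensorProduct.comm K k L) (Algebra.TensorProduct.comm K k L).injective
  let e := Algebra.TensorProduct.cancelBaseChange K k B B L
  let θ : L ⊗[K] B →+* B ⊗[k] (k ⊗[K] L) :=
    (e.symm : B ⊗[K] L →+* B ⊗[k] (k ⊗[K] L)).comp
      ((Algebra.TensorProduct.comm K L B : L ⊗[K] B ≃ₐ[K] B ⊗[K] L) : L ⊗[K] B →+* B ⊗[K] L)
  have hθ : ∀ l b, θ (l ⊗ₜ[K] b) = b ⊗ₜ[k] ((1 : k) ⊗ₜ[K] l) := fun l b => by simp [θ, e]
  have hθinj : Function.Injective θ := e.symm.injective.comp (Algebra.TensorProduct.comm K L B).injective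
  let g : L →+* k ⊗[K] L := (Algebra.TensorProduct.includeRight : L →ₐ[K] k ⊗[K] L).toRingHom
  obtain ⟨c, hc⟩ := mem_range_of_eval₂ hB g hy (θ y) (by
    have h1 : θ (eval₂ (algebraMap L (L ⊗[K] B)) y (minpoly L y)) = 0 := by
      rw [← aeval_def, minpoly.aeval, map_zero]
    rw [hom_eval₂] at h1
    refine Eq.trans ?_ h1
    congr 1)
  refine ⟨Algebra.TensorProduct.comm K k L c, hθinj (Eq.trans ?_ hc.symm)⟩
  clear hc
  induction c using TensorProduct.induction_on with
  | zero => simp
  | tmul s l =>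
    simp only [Algebra.TensorProduct.comm_tmul, AlgHom.toRingHom_eq_coe, RingHom.coe_coe,
      Algebra.TensorProduct.map_tmul, AlgHom.id_apply, IsScalarTower.coe_toAlgHom', hθ]
    rw [Algebra.algebraMap_eq_smul_one, TensorProduct.smul_tmul, TensorProduct.smul_tmul', smul_eq_mul, mul_one]
  | add a b ha hb => simp only [tmul_add, map_add, ha, hb]

/-- An element of the ideal generated by a prime of an absolutely flat ring is killed outside the prime. -/
theorem exists_notMem_mul_eq_zero {E C : Type u} [CommRing E] [CommRing C] (hE : ∀ a : E, ∃ r, a = a * a * r)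
    (m : Ideal E) [m.IsPrime] (f : E →+* C) {z : C} (hz : z ∈ m.map f) : ∃ u ∉ m, f u * z = 0 := by
  induction hz using Submodule.span_induction with
  | mem x hx =>
    obtain ⟨a, ha, rfl⟩ := hx
    obtain ⟨r, hr⟩ := hE a
    refine ⟨1 - a * r, fun h => Ideal.IsPrime.ne_top ‹m.IsPrime› ((Ideal.eq_top_iff_one m).2 ?_), ?_⟩
    · simpa using add_mem h (m.mul_mem_right r ha)
    · rw [← map_mul, sub_mul, one_mul, mul_right_comm, ← hr, sub_self, map_zero]
  | zero => exact ⟨1, fun h => Ideal.IsPrime.ne_top ‹m.IsPrime› ((Ideal.eq_top_iff_one m).2 h), mul_zero _⟩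
  | add x y _ _ hx hy =>
    obtain ⟨u, hu, hux⟩ := hx
    obtain ⟨v, hv, hvy⟩ := hy
    refine ⟨u * v, fun h => (Ideal.IsPrime.mem_or_mem ‹m.IsPrime› h).elim hu hv, ?_⟩
    rw [map_mul, mul_add, mul_right_comm _ _ x, hux, mul_assoc _ _ y, hvy, zero_mul, mul_zero, add_zero]
  | smul c x _ hx =>
    obtain ⟨u, hu, hux⟩ := hx
    exact ⟨u, hu, by rw [smul_eq_mul, mul_left_comm, hux, mul_zero]⟩

variable (K : Type u) [Field K] (A : Type u) [CommRing A] [Algebra K A]

theorem exists_mul_eq_sepElems (a : sepElems K A) : ∃ r, a = a * a * r :=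
  haveI := weaklyEtale_of_forall (sepElems K A) fun _ h => h
  WEtLib.exists_mul_eq (K := K) a

variable {K A}

/-- Separable elements lift along the quotient by a prime of the separable elements. -/
theorem exists_lift_sepElems (m : Ideal (sepElems K A)) [m.IsPrime]
    {x : A ⧸ m.map (sepElems K A).val.toRingHom} (hx : IsSeparable K x) :
    ∃ a : sepElems K A, Ideal.Quotient.mk _ (a : A) = x := by
  obtain ⟨a, rfl⟩ := Ideal.Quotient.mk_surjective x
  let q := minpoly K (Ideal.Quotient.mk (m.map (sepElems K A).val.toRingHom) a)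
  have hqa : aeval a q ∈ m.map (sepElems K A).val.toRingHom := by
    rw [← Ideal.Quotient.eq_zero_iff_mem, ← Ideal.Quotient.mkₐ_eq_mk K, ← aeval_algHom_apply]
    exact minpoly.aeval K _
  obtain ⟨u, hu, hu0⟩ := exists_notMem_mul_eq_zero (exists_mul_eq_sepElems K A) m _ hqa
  obtain ⟨r, hr⟩ := exists_mul_eq_sepElems K A u
  have he : IsIdempotentElem (u * r) := by
    show u * r * (u * r) = u * r
    rw [show u * r * (u * r) = u * u * r * r by ring, ← hr]
  let ε : A := (u * r : sepElems K A)
  have hε : ε * ε = ε := congrArg Subtype.val he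
  have hε0 : ε * aeval a q = 0 := by
    show ((u : A) * r) * _ = 0
    rw [mul_right_comm]
    exact mul_eq_zero_of_left hu0 _
  have hev : ∀ p : K[X], aeval (ε * a) p = ε * aeval a p + (1 - ε) * algebraMap K A (p.coeff 0) := fun p => by
    induction p using Polynomial.induction_on with
    | C c => simp only [aeval_C, coeff_C_zero]; ring
    | add p q hp hq => simp only [map_add, coeff_add, hp, hq]; ring
    | monomial n c _ =>
      simp only [map_mul, map_pow, aeval_C, aeval_X, mul_coeff_zero, coeff_C_zero, coeff_X_pow]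
      rw [mul_pow, (show IsIdempotentElem ε from hε).pow_succ_eq]
      simp only [Nat.zero_ne_add_one, ↓reduceIte, mul_zero, map_zero]
      ring
  have hsep : IsSeparable K (ε * a) := by
    by_cases h0 : q.coeff 0 = 0
    · refine Separable.of_dvd (f := q) hx (minpoly.dvd K _ ?_)
      rw [hev, hε0, h0, map_zero, mul_zero, add_zero]
    · refine Separable.of_dvd (f := X * q) (separable_X.mul hx ?_) (minpoly.dvd K _ ?_)
      · exact prime_X.coprime_iff_not_dvd.2 (fun h => h0 (X_dvd_iff.1 h))
      · rw [map_mul, aeval_X, hev, hε0, zero_add, show ε * a * ((1 - ε) * algebraMap K A (q.coeff 0)) =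
          (ε - ε * ε) * (a * algebraMap K A (q.coeff 0)) by ring, hε, sub_self, zero_mul]
  refine ⟨⟨ε * a, hsep⟩, Ideal.Quotient.eq.2 ?_⟩
  have h1 : u * r - 1 ∈ m := by
    refine (Ideal.IsPrime.mem_or_mem ‹m.IsPrime› (?_ : u * (u * r - 1) ∈ m)).resolve_left hu
    rw [mul_sub, mul_one, ← mul_assoc, ← hr, sub_self]
    exact zero_mem m
  rw [show ε * a - a = a * (ε - 1) by ring]
  refine Ideal.mul_mem_left _ _ ?_
  exact Ideal.mem_map_of_mem (sepElems K A).val.toRingHom h1

theorem sepElems_baseChange (L : Type u) [Field L] [Algebra K L] :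
    sepElems L (L ⊗[K] A) =
      Algebra.adjoin L ((Algebra.TensorProduct.includeRight : A →ₐ[K] L ⊗[K] A) '' (sepElems K A : Set A)) := by
  refine le_antisymm (fun y hy => ?_) (Algebra.adjoin_le ?_)
  swap
  · rintro _ ⟨x, hx, rfl⟩
    refine Separable.of_dvd (f := (minpoly K x).map (algebraMap K L)) (Separable.map hx) (minpoly.dvd L _ ?_)
    rw [aeval_map_algebraMap, aeval_algHom_apply, minpoly.aeval, map_zero]
  set M := Algebra.adjoin L ((Algebra.TensorProduct.includeRight : A →ₐ[K] L ⊗[K] A) '' (sepElems K A : Set A))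
  let f : sepElems K A →+* L ⊗[K] A :=
    ((Algebra.TensorProduct.includeRight : A →ₐ[K] L ⊗[K] A).comp (sepElems K A).val).toRingHom
  have hfM : ∀ u, f u ∈ M := fun u => Algebra.subset_adjoin ⟨u, u.2, rfl⟩
  by_contra hyM
  let J : Ideal (sepElems K A) :=
    { carrier := {u | f u * y ∈ M}
      zero_mem' := by
        show f 0 * y ∈ M
        rw [map_zero, zero_mul]; exact zero_mem M
      add_mem' := fun {u v} hu hv => by
        show f (u + v) * y ∈ M
        rw [map_add, add_mul]; exact add_mem hu hv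
      smul_mem' := fun c u hu => by
        show f (c * u) * y ∈ M
        rw [map_mul, mul_assoc]; exact mul_mem (hfM c) hu }
  have hJ : J ≠ ⊤ := fun h => hyM (by
    have h1 : f 1 * y ∈ M := (h ▸ Submodule.mem_top : (1 : sepElems K A) ∈ J)
    rwa [map_one, one_mul] at h1)
  obtain ⟨m, hm, hJm⟩ := J.exists_le_maximal hJ
  haveI := hm
  let I : Ideal A := m.map (sepElems K A).val.toRingHom
  letI := Ideal.Quotient.field m
  let B := A ⧸ I
  haveI : Nontrivial B := Ideal.Quotient.nontrivial_iff.2 fun htop => by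
    obtain ⟨u, hu, hu0⟩ := exists_notMem_mul_eq_zero (exists_mul_eq_sepElems K A) m _
      ((Ideal.eq_top_iff_one I).1 htop)
    rw [mul_one] at hu0
    exact hu (by rw [show u = 0 from Subtype.ext hu0]; exact zero_mem m)
  let κ := sepElems K A ⧸ m
  letI : Algebra κ B := RingHom.toAlgebra (Ideal.quotientMap I (sepElems K A).val.toRingHom Ideal.le_comap_map)
  haveI : IsScalarTower K κ B := IsScalarTower.of_algebraMap_eq fun c => rfl
  haveI : Algebra.IsSeparable K κ := ⟨fun x => by
    obtain ⟨x, rfl⟩ := Ideal.Quotient.mk_surjective x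
    exact isSeparable_map (Ideal.Quotient.mkₐ K m) ((isSeparable_subalgebra_iff _ x).2 x.2)⟩
  haveI := weaklyEtale_of_isSeparable (K := K) κ
  have hB : sepElems κ B = ⊥ := eq_bot_iff.2 fun x hx => by
    obtain ⟨a, ha⟩ := exists_lift_sepElems m (isSeparable_trans (K := K) (k := κ) hx)
    exact Algebra.mem_bot.2 ⟨Ideal.Quotient.mk m a, ha⟩
  let p : L ⊗[K] A →ₐ[L] L ⊗[K] B := Algebra.TensorProduct.map (AlgHom.id L L) (Ideal.Quotient.mkₐ K I)
  have hpy : IsSeparable L (p y) := isSeparable_map p hy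
  obtain ⟨c, hc⟩ := mem_range_of_isSeparable κ hB L hpy
  obtain ⟨z, hzM, hz⟩ : ∃ z ∈ M, p z = p y := by
    rw [← hc]
    clear hc
    induction c using TensorProduct.induction_on with
    | zero => exact ⟨0, zero_mem M, by rw [map_zero, map_zero]⟩
    | tmul l s =>
      obtain ⟨s, rfl⟩ := Ideal.Quotient.mk_surjective s
      refine ⟨algebraMap L _ l * f s, mul_mem (M.algebraMap_mem l) (hfM s), ?_⟩
      simp [p, f, Algebra.TensorProduct.tmul_mul_tmul]
      rfl
    | add a b ha hb =>
      obtain ⟨za, hza, ha⟩ := ha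
      obtain ⟨zb, hzb, hb⟩ := hb
      exact ⟨za + zb, add_mem hza hzb, by simp only [map_add, ha, hb]⟩
  have hker : y - z ∈ m.map f := by
    have h1 : y - z ∈ RingHom.ker (Algebra.TensorProduct.map (AlgHom.id K L) (Ideal.Quotient.mkₐ K I)) := by
      rw [RingHom.mem_ker, map_sub, sub_eq_zero]
      exact hz.symm
    rw [Algebra.TensorProduct.lTensor_ker _ (Ideal.Quotient.mkₐ_surjective K I)] at h1
    rw [show RingHom.ker (Ideal.Quotient.mkₐ K I) = I from Ideal.Quotient.mkₐ_ker K I] at h1
    rwa [show I.map (Algebra.TensorProduct.includeRight : A →ₐ[K] L ⊗[K] A) = m.map f from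
      Ideal.map_map (sepElems K A).val.toRingHom
        (Algebra.TensorProduct.includeRight : A →ₐ[K] L ⊗[K] A).toRingHom] at h1
  obtain ⟨u, hu, hu0⟩ := exists_notMem_mul_eq_zero (exists_mul_eq_sepElems K A) m f hker
  refine hu (hJm ?_)
  show f u * y ∈ M
  rw [mul_sub, sub_eq_zero] at hu0
  rw [hu0]
  exact mul_mem (hfM u) hzM

end Groth.Agent.WEt93
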