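import Groth.Agent.WEtLib.OverField
import Groth.Agent.AzumayaX.SepElement
import Groth.Prelude.Def_EtAlgD
import Mathlib

/-!
# The largest weakly etale subalgebra consists of the separable elements
-/

set_option autoImplicit false
set_option linter.style.haveILetI false

universe u

open Polynomial TensorProduct

namespace Groth.Agent.WEt93

variable {K : Type u} [Field K]

theorem weaklyEtale_of_algEquiv {R T : Type u} [CommRing R] [CommRing T] [Algebra K R] [Algebra K T]
    [Algebra.WeaklyEtale K R] (e : R ≃ₐ[K] T) : Algebra.WeaklyEtale K T := by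
  letI := e.toAlgHom.toRingHom.toAlgebra
  haveI : IsScalarTower K R T := IsScalarTower.of_algebraMap_eq fun k => (e.commutes k).symm
  haveI : Algebra.Etale R T :=
    Algebra.Etale.of_equiv (AlgEquiv.ofBijective (Algebra.ofId R T) e.bijective)
  exact Algebra.WeaklyEtale.trans K R T

theorem weaklyEtale_range {R A : Type u} [CommRing R] [CommRing A] [Algebra K R] [Algebra K A]
    [Algebra.WeaklyEtale K R] (g : R →ₐ[K] A) : Algebra.WeaklyEtale K g.range :=
  haveI := WEtLib.weaklyEtale_quotient (K := K) (RingHom.ker g)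
  weaklyEtale_of_algEquiv ((Ideal.quotientKerEquivRange g) : (R ⧸ RingHom.ker g) ≃ₐ[K] g.range)

/-- In a weakly etale algebra every element is separable. -/
theorem isSeparable_of_weaklyEtale {B : Type u} [CommRing B] [Algebra K B] [Algebra.WeaklyEtale K B] (x : B) :
    IsSeparable K x := by
  classical
  have hint := WEtLib.isIntegral_of_weaklyEtale (K := K) x
  let T := Algebra.adjoin K ({x} : Set B)
  have het := WEtLib.etale_subalgebra_of_fg T (Subalgebra.fg_adjoin_finset {x} |> fun h => by simpa [T] using h)
  obtain ⟨ι, _, F, _, _, e, hF⟩ := (Algebra.Etale.iff_exists_algEquiv_prod K T).1 het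
  haveI := Fintype.ofFinite ι
  let y : T := ⟨x, Algebra.self_mem_adjoin_singleton K x⟩
  let s : Finset K[X] := (Finset.univ : Finset ι).image fun i => minpoly K (e y i)
  have hsep : ∀ i, (minpoly K (e y i)).Separable := fun i => by
    haveI := (hF i).1
    haveI := (hF i).2
    exact Algebra.IsSeparable.isSeparable K (e y i)
  have hirr : ∀ i, Irreducible (minpoly K (e y i)) := fun i => by
    haveI := (hF i).1
    exact minpoly.irreducible (Algebra.IsIntegral.isIntegral _)
  have hmon : ∀ i, (minpoly K (e y i)).Monic := fun i => by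
    haveI := (hF i).1
    exact minpoly.monic (Algebra.IsIntegral.isIntegral _)
  have hs : (∏ f ∈ s, f).Separable := by
    refine separable_prod' (fun f hf g hg hne => ?_) fun f hf => ?_
    · obtain ⟨i, -, rfl⟩ := Finset.mem_image.1 hf
      obtain ⟨j, -, rfl⟩ := Finset.mem_image.1 hg
      refine (hirr i).coprime_iff_not_dvd.2 fun h => hne ?_
      exact eq_of_monic_of_associated (hmon i) (hmon j) ((hirr i).associated_of_dvd (hirr j) h)
    · obtain ⟨i, -, rfl⟩ := Finset.mem_image.1 hf
      exact hsep i
  have h0 : aeval x (∏ f ∈ s, f) = 0 := by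
    have h1 : aeval (e y) (∏ f ∈ s, f) = 0 := funext fun i => by
      show Pi.evalAlgHom K F i (aeval (e y) (∏ f ∈ s, f)) = 0
      rw [← aeval_algHom_apply]
      refine aeval_eq_zero_of_dvd_aeval_eq_zero (p := minpoly K (e y i))
        (Finset.dvd_prod_of_mem _ (Finset.mem_image_of_mem _ (Finset.mem_univ i))) ?_
      exact minpoly.aeval K (e y i)
    have h2 : aeval y (∏ f ∈ s, f) = 0 := e.injective (by rw [map_zero, ← h1]; exact (aeval_algHom_apply e.toAlgHom y _).symm)
    have h3 := congrArg T.val h2
    rwa [map_zero, ← aeval_algHom_apply] at h3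
  exact hs.of_dvd (minpoly.dvd K x h0)

variable {A : Type u} [CommRing A] [Algebra K A]

theorem weaklyEtale_bot : Algebra.WeaklyEtale K (⊥ : Subalgebra K A) :=
  haveI : Algebra.WeaklyEtale K K := inferInstance
  by have h := weaklyEtale_range (Algebra.ofId K A); rwa [Algebra.range_ofId] at h

theorem weaklyEtale_sup {S T : Subalgebra K A} (hS : Algebra.WeaklyEtale K S) (hT : Algebra.WeaklyEtale K T) :
    Algebra.WeaklyEtale K (S ⊔ T : Subalgebra K A) := by
  haveI : Algebra.WeaklyEtale K (S ⊗[K] T) := Algebra.WeaklyEtale.trans K S (S ⊗[K] T)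
  have h := weaklyEtale_range (Algebra.TensorProduct.productMap S.val T.val)
  rwa [Algebra.TensorProduct.productMap_range, Subalgebra.range_val, Subalgebra.range_val] at h

theorem weaklyEtale_adjoin_singleton {x : A} (hx : IsSeparable K x) :
    Algebra.WeaklyEtale K (Algebra.adjoin K ({x} : Set A)) := by
  have hint : IsIntegral K x := hx.isIntegral
  haveI := AzumayaX.etale_adjoinRoot (minpoly.monic hint) hx
  have h := weaklyEtale_range (AdjoinRoot.liftAlgHom (minpoly K x) (Algebra.ofId K A) x (minpoly.aeval K x))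
  have hr : (AdjoinRoot.liftAlgHom (minpoly K x) (Algebra.ofId K A) x (minpoly.aeval K x)).range =
      Algebra.adjoin K ({x} : Set A) := by
    rw [← Algebra.map_top, ← AdjoinRoot.adjoinRoot_eq_top, AlgHom.map_adjoin, Set.image_singleton]
    congr 2
    exact AdjoinRoot.liftAlgHom_root (minpoly K x) (Algebra.ofId K A) x (minpoly.aeval K x)
  rwa [hr] at h

theorem weaklyEtale_adjoin_finset (s : Finset A) (hs : ∀ x ∈ s, IsSeparable K x) :
    Algebra.WeaklyEtale K (Algebra.adjoin K (s : Set A)) := by
  classical
  induction s using Finset.induction with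
  | empty =>
    rw [Finset.coe_empty, Algebra.adjoin_empty]
    exact weaklyEtale_bot
  | insert a t _ ih =>
    rw [Finset.coe_insert, Set.insert_eq, Algebra.adjoin_union]
    exact weaklyEtale_sup (weaklyEtale_adjoin_singleton (hs a (Finset.mem_insert_self a t)))
      (ih fun x hx => hs x (Finset.mem_insert_of_mem hx))

theorem isSeparable_subalgebra_iff (S : Subalgebra K A) (x : S) : IsSeparable K x ↔ IsSeparable K (x : A) := by
  show (minpoly K x).Separable ↔ (minpoly K (x : A)).Separable
  rw [← minpoly.algHom_eq S.val Subtype.val_injective x]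
  rfl

theorem isSeparable_of_mem_adjoin (s : Finset A) (hs : ∀ x ∈ s, IsSeparable K x) {y : A}
    (hy : y ∈ Algebra.adjoin K (s : Set A)) : IsSeparable K y :=
  haveI := weaklyEtale_adjoin_finset s hs
  (isSeparable_subalgebra_iff _ ⟨y, hy⟩).1 (isSeparable_of_weaklyEtale _)

theorem isSeparable_algebraMap' (k : K) : IsSeparable K (algebraMap K A k) :=
  isSeparable_of_mem_adjoin ∅ (fun _ h => absurd h (Finset.notMem_empty _)) (Subalgebra.algebraMap_mem _ k)

variable (K A) in
/-- The separable elements. -/
def sepElems : Subalgebra K A where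
  carrier := {x | IsSeparable K x}
  mul_mem' {a b} ha hb := by
    classical
    exact isSeparable_of_mem_adjoin {a, b} (by simp [ha, hb] <;> exact ⟨ha, hb⟩)
      (mul_mem (Algebra.subset_adjoin (by simp)) (Algebra.subset_adjoin (by simp)))
  add_mem' {a b} ha hb := by
    classical
    exact isSeparable_of_mem_adjoin {a, b} (by simp [ha, hb] <;> exact ⟨ha, hb⟩)
      (add_mem (Algebra.subset_adjoin (by simp)) (Algebra.subset_adjoin (by simp)))
  algebraMap_mem' := isSeparable_algebraMap'

theorem mem_sepElems {x : A} : x ∈ sepElems K A ↔ IsSeparable K x := Iff.rfl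

/-- A subalgebra of separable elements is weakly etale. -/
theorem weaklyEtale_of_forall (S : Subalgebra K A) (hS : ∀ x ∈ S, IsSeparable K x) : Algebra.WeaklyEtale K S := by
  classical
  refine S0736.result K S (IndEtLib.isIndEtale_of_factor fun P _ _ _ φ => ?_)
  obtain ⟨s, hs⟩ := (Algebra.FiniteType.out : (⊤ : Subalgebra K P).FG)
  let t : Finset A := s.image fun p => (φ p : A)
  haveI := weaklyEtale_adjoin_finset t fun x hx => by
    obtain ⟨p, -, rfl⟩ := Finset.mem_image.1 hx
    exact hS _ (φ p).2
  have hle : Algebra.adjoin K (t : Set A) ≤ S := Algebra.adjoin_le fun x hx => by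
    obtain ⟨p, -, rfl⟩ := Finset.mem_image.1 hx
    exact (φ p).2
  have hφ : ∀ p, (S.val.comp φ) p ∈ Algebra.adjoin K (t : Set A) := fun p => by
    have : (S.val.comp φ) p ∈ (Algebra.adjoin K (s : Set P)).map (S.val.comp φ) := ⟨p, by rw [hs]; trivial, rfl⟩
    rwa [AlgHom.map_adjoin, show (S.val.comp φ) '' (s : Set P) = (t : Set A) by simp [t, Set.image_image]] at this
  have het : Algebra.Etale K (Algebra.adjoin K (t : Set A)) := by
    haveI := WEtLib.etale_subalgebra_of_fg (⊤ : Subalgebra K (Algebra.adjoin K (t : Set A)))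
      ((Subalgebra.fg_top _).2 (Subalgebra.fg_adjoin_finset t))
    exact Algebra.Etale.of_equiv Subalgebra.topEquiv
  exact ⟨_, inferInstance, inferInstance, het, (S.val.comp φ).codRestrict _ hφ, Subalgebra.inclusion hle, rfl⟩

theorem maxWeaklyEtale_eq : EtAlgD.maxWeaklyEtale K A = sepElems K A := by
  refine le_antisymm (sSup_le fun S hS x hx => ?_) (le_sSup (weaklyEtale_of_forall _ fun _ h => h))
  haveI : Algebra.WeaklyEtale K S := hS
  exact (isSeparable_subalgebra_iff S ⟨x, hx⟩).1 (isSeparable_of_weaklyEtale _)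

theorem weaklyEtale_max : Algebra.WeaklyEtale K (EtAlgD.maxWeaklyEtale K A) := by
  rw [maxWeaklyEtale_eq]
  exact weaklyEtale_of_forall _ fun _ h => h

end Groth.Agent.WEt93
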