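import Groth.Agent.WEt93.MaxWE
import Mathlib

/-!
# Intersections, reduction, and connected algebras
-/

set_option autoImplicit false
set_option linter.style.haveILetI false

universe u

open Polynomial

namespace Groth.Agent.WEt93

variable {K : Type u} [Field K] {A : Type u} [CommRing A] [Algebra K A]

theorem map_maxWeaklyEtale (A' : Subalgebra K A) :
    (EtAlgD.maxWeaklyEtale K A').map A'.val = EtAlgD.maxWeaklyEtale K A ⊓ A' := by
  rw [maxWeaklyEtale_eq, maxWeaklyEtale_eq]
  ext x
  constructor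
  · rintro ⟨y, hy, rfl⟩
    exact ⟨(isSeparable_subalgebra_iff A' y).1 hy, y.2⟩
  · rintro ⟨hx, hx'⟩
    exact ⟨⟨x, hx'⟩, (isSeparable_subalgebra_iff A' ⟨x, hx'⟩).2 hx, rfl⟩

theorem isSeparable_map {B : Type u} [CommRing B] [Algebra K B] (f : A →ₐ[K] B) {x : A} (hx : IsSeparable K x) :
    IsSeparable K (f x) :=
  Separable.of_dvd hx (minpoly.dvd K (f x) (by rw [aeval_algHom_apply, minpoly.aeval, map_zero]))

theorem eq_zero_of_isNilpotent {x : A} (hx : IsSeparable K x) (hn : IsNilpotent x) : x = 0 := by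
  haveI := weaklyEtale_of_forall (sepElems K A) (fun _ h => h)
  haveI : IsReduced (sepElems K A) := WEtLib.isReduced_of_forall_exists (WEtLib.exists_mul_eq (K := K))
  have hn' : IsNilpotent ((sepElems K A).val ⟨x, hx⟩) := hn
  have h : (⟨x, hx⟩ : sepElems K A) = 0 := ((IsNilpotent.map_iff (f := (sepElems K A).val)
    Subtype.val_injective).1 hn').eq_zero
  exact congrArg Subtype.val h

theorem bijOn_red : Set.BijOn (Ideal.Quotient.mkₐ K (nilradical A)) (EtAlgD.maxWeaklyEtale K A)
    (EtAlgD.maxWeaklyEtale K (A ⧸ nilradical A)) := by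
  rw [maxWeaklyEtale_eq, maxWeaklyEtale_eq]
  refine ⟨fun x hx => isSeparable_map _ hx, fun x hx y hy h => ?_, fun z hz => ?_⟩
  · refine sub_eq_zero.1 (eq_zero_of_isNilpotent (K := K) (sub_mem hx hy : x - y ∈ sepElems K A) ?_)
    exact mem_nilradical.1 (Ideal.Quotient.eq.1 h)
  · obtain ⟨a, rfl⟩ := Ideal.Quotient.mk_surjective z
    let f := minpoly K (Ideal.Quotient.mk (nilradical A) a)
    have hz' : f.Separable := hz
    have hnil : IsNilpotent (aeval a f) := mem_nilradical.1 (Ideal.Quotient.eq_zero_iff_mem.1 (by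
      rw [← Ideal.Quotient.mkₐ_eq_mk K, ← aeval_algHom_apply]
      exact minpoly.aeval K _))
    obtain ⟨c, d, hcd⟩ := id hz'
    have hu : IsUnit (aeval a (derivative f)) := by
      have h1 := congrArg (aeval a) hcd
      rw [map_add, map_mul, map_mul, map_one] at h1
      have h2 : IsUnit (1 - aeval a c * aeval a f) := ((Commute.all _ _).isNilpotent_mul_left hnil).isUnit_one_sub
      rw [← eq_sub_of_add_eq' h1] at h2
      exact isUnit_of_mul_isUnit_right h2
    obtain ⟨r, ⟨hr, hr0⟩, -⟩ := existsUnique_nilpotent_sub_and_aeval_eq_zero hnil hu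
    exact ⟨r, hz'.of_dvd (minpoly.dvd K r hr0), (Ideal.Quotient.eq.2 (mem_nilradical.2 hr)).symm⟩

theorem isField_of_connected (h : ∀ e : A, IsIdempotentElem e → e = 0 ∨ e = 1) [Nontrivial A] :
    IsField (EtAlgD.maxWeaklyEtale K A) ∧ Algebra.IsSeparable K (EtAlgD.maxWeaklyEtale K A) := by
  haveI := weaklyEtale_max (K := K) (A := A)
  refine ⟨⟨exists_pair_ne _, mul_comm, fun {a} ha => ?_⟩, ⟨isSeparable_of_weaklyEtale⟩⟩
  obtain ⟨r, hr⟩ := WEtLib.exists_mul_eq (K := K) a
  have he : IsIdempotentElem (a * r) := by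
    show a * r * (a * r) = a * r
    rw [show a * r * (a * r) = a * a * r * r by ring, ← hr]
  rcases h _ (he.map (EtAlgD.maxWeaklyEtale K A).val) with h0 | h1
  · refine absurd ?_ ha
    have : a * r = 0 := Subtype.val_injective h0
    rw [hr, mul_assoc, this, mul_zero]
  · exact ⟨r, Subtype.val_injective h1⟩

end Groth.Agent.WEt93
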