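import Groth.Agent.WEt93.MaxWEProps
import Groth.Agent.WEtLib.Field
import Groth.Agent.GeomSep.Basic
import Groth.Agent.CAlgOdd.GLChar
import Mathlib

/-!
# The largest weakly etale subalgebra commutes with extensions of the ground field
-/

set_option autoImplicit false
set_option linter.style.haveILetI false

universe u

open Polynomial TensorProduct

namespace Groth.Agent.WEt93

variable {K : Type u} [Field K] {A : Type u} [CommRing A] [Algebra K A]

/-- Separability is transitive through weakly etale extensions of fields. -/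
theorem isSeparable_trans {k : Type u} [Field k] [Algebra K k] [Algebra k A] [IsScalarTower K k A]
    [Algebra.WeaklyEtale K k] {x : A} (hx : IsSeparable k x) : IsSeparable K x := by
  haveI h1 : Algebra.WeaklyEtale k (Algebra.adjoin k ({x} : Set A)) := weaklyEtale_adjoin_singleton hx
  haveI : IsScalarTower K k (Algebra.adjoin k ({x} : Set A)) := IsScalarTower.of_algebraMap_eq fun c => Subtype.ext (IsScalarTower.algebraMap_apply K k A c)
  haveI h2 : Algebra.WeaklyEtale K (Algebra.adjoin k ({x} : Set A)) := Algebra.WeaklyEtale.trans K k _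
  have h : IsSeparable K (⟨x, Algebra.self_mem_adjoin_singleton k x⟩ : Algebra.adjoin k ({x} : Set A)) := @isSeparable_of_weaklyEtale K _ (Algebra.adjoin k ({x} : Set A)) _ _ h2 _
  have h' : IsSeparable K (((Algebra.adjoin k ({x} : Set A)).val.restrictScalars K) ⟨x, Algebra.self_mem_adjoin_singleton k x⟩) := isSeparable_map _ h
  exact h'

theorem weaklyEtale_of_isSeparable (k : Type u) [Field k] [Algebra K k] [Algebra.IsSeparable K k] :
    Algebra.WeaklyEtale K k := by
  have h := weaklyEtale_of_forall (⊤ : Subalgebra K k) fun x _ => Algebra.IsSeparable.isSeparable K x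
  exact @weaklyEtale_of_algEquiv K _ _ k _ _ _ _ h Subalgebra.topEquiv

theorem isSeparable_of_isIdempotentElem {e : A} (he : IsIdempotentElem e) : IsSeparable K e := by
  refine Separable.of_dvd (f := (X : K[X]) * (X - C 1)) ?_ (minpoly.dvd K e ?_)
  · refine separable_X.mul separable_X_sub_C ?_
    exact ⟨1, -1, by rw [map_one]; ring⟩
  · simp only [map_mul, map_sub, aeval_X, map_one]
    rw [mul_sub, mul_one, he.eq, sub_self]

/-- Without separable elements, idempotents over a Galois extension are scalars. -/
theorem idem_mem_range_of_galois (hA : sepElems K A = ⊥) [Nontrivial A] (E : Type u) [Field E] [Algebra K E]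
    [FiniteDimensional K E] [IsGalois K E] {e : E ⊗[K] A} (he : IsIdempotentElem e) :
    e ∈ (algebraMap E (E ⊗[K] A)).range := by
  classical
  let T : E ⊗[K] A →ₗ[K] A := TensorProduct.lift ((LinearMap.lsmul K A).comp (Algebra.trace K E))
  have hT : ∀ (l : E) (a : A), T (l ⊗ₜ a) = Algebra.trace K E l • a := fun l a => rfl
  have hTsum : ∀ z : E ⊗[K] A, (1 : E) ⊗ₜ[K] T z =
      ∑ σ : Gal(E/K), Algebra.TensorProduct.map σ.toAlgHom (AlgHom.id K A) z := by
    intro z
    induction z using TensorProduct.induction_on with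
    | zero => simp
    | tmul l a =>
      rw [hT, ← TensorProduct.smul_tmul]
      simp only [Algebra.TensorProduct.map_tmul, AlgHom.id_apply, ← TensorProduct.sum_tmul]
      congr 1
      rw [← Algebra.algebraMap_eq_smul_one, trace_eq_sum_automorphisms]
      rfl
    | add x y hx hy => simp only [map_add, tmul_add, hx, hy, Finset.sum_add_distrib]
  have hTmem : ∀ l : E, ∃ k : K, T ((l ⊗ₜ[K] (1 : A)) * e) = algebraMap K A k := by
    intro l
    have h1 : (1 : E) ⊗ₜ[K] T ((l ⊗ₜ[K] (1 : A)) * e) ∈ sepElems E (E ⊗[K] A) := by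
      rw [hTsum]
      refine sum_mem fun σ _ => ?_
      rw [map_mul]
      refine mul_mem ?_ ((isSeparable_of_isIdempotentElem (he.map _)) : _ ∈ sepElems E (E ⊗[K] A))
      rw [Algebra.TensorProduct.map_tmul, map_one]
      exact Subalgebra.algebraMap_mem (sepElems E (E ⊗[K] A)) (σ l)
    haveI := weaklyEtale_of_isSeparable (K := K) E
    have h2 : IsSeparable K ((1 : E) ⊗ₜ[K] T ((l ⊗ₜ[K] (1 : A)) * e)) := isSeparable_trans (K := K) h1
    have h3 : IsSeparable K (T ((l ⊗ₜ[K] (1 : A)) * e)) := by
      unfold IsSeparable at h2 ⊢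
      rwa [← minpoly.algHom_eq (Algebra.TensorProduct.includeRight : A →ₐ[K] E ⊗[K] A)
        (Algebra.TensorProduct.includeRight_injective (algebraMap K E).injective)]
    have h4 : T ((l ⊗ₜ[K] (1 : A)) * e) ∈ sepElems K A := h3
    rw [hA, Algebra.mem_bot] at h4
    obtain ⟨k, hk⟩ := h4
    exact ⟨k, hk.symm⟩
  let b := Module.finBasis K E
  let d := (Algebra.traceForm K E).dualBasis (traceForm_nondegenerate K E) b
  have hrec : ∀ z : E ⊗[K] A, z = ∑ i, d i ⊗ₜ[K] T ((b i ⊗ₜ[K] (1 : A)) * z) := by
    intro z
    induction z using TensorProduct.induction_on with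
    | zero => simp
    | tmul l a =>
      simp only [Algebra.TensorProduct.tmul_mul_tmul, one_mul, hT, ← TensorProduct.smul_tmul,
        ← TensorProduct.sum_tmul]
      congr 1
      conv_lhs => rw [← d.sum_repr l]
      refine Finset.sum_congr rfl fun i _ => ?_
      rw [LinearMap.BilinForm.dualBasis_repr_apply, Algebra.traceForm_apply, mul_comm]
    | add x y hx hy =>
      conv_lhs => rw [hx, hy]
      rw [← Finset.sum_add_distrib]
      exact Finset.sum_congr rfl fun i _ => by rw [mul_add, map_add, tmul_add]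
  choose k hk using fun i => hTmem (b i)
  refine ⟨∑ i, k i • d i, ?_⟩
  conv_rhs => rw [hrec e]
  rw [Algebra.TensorProduct.algebraMap_apply, Algebra.algebraMap_self, RingHom.id_apply, TensorProduct.sum_tmul]
  exact Finset.sum_congr rfl fun i _ => by rw [hk, Algebra.algebraMap_eq_smul_one, TensorProduct.smul_tmul]

/-- Without separable elements, an algebra is geometrically connected. -/
theorem connectedSpace_tensor_of_sepElems_eq_bot (hA : sepElems K A = ⊥) [Nontrivial A] (L : Type u) [Field L]
    [Algebra K L] : ConnectedSpace (PrimeSpectrum (L ⊗[K] A)) := by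
  let Ks := SeparableClosure K
  haveI : Nontrivial (Ks ⊗[K] A) := (Algebra.TensorProduct.includeRight_injective
    (A := Ks) (B := A) (algebraMap K Ks).injective).nontrivial
  haveI : ConnectedSpace (PrimeSpectrum (Ks ⊗[K] A)) := by
    rw [connectedSpace_iff_clopen]
    refine ⟨PrimeSpectrum.nonempty_iff_nontrivial.2 inferInstance, fun U hU => ?_⟩
    obtain ⟨e, he, hUe⟩ := (PrimeSpectrum.isClopen_iff (R := Ks ⊗[K] A) (s := U)).1 hU
    obtain ⟨E, hE, e', -, he', -⟩ := GeomSep.exists_finite_intermediateField (k := K) (L := Ks) e e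
    haveI := hE
    let N := IntermediateField.normalClosure K E Ks
    haveI : IsGalois K N := {}
    let ι := IntermediateField.inclusion (IntermediateField.le_normalClosure E)
    let e'' := Algebra.TensorProduct.map ι (AlgHom.id K A) e'
    have hmap : Algebra.TensorProduct.map N.val (AlgHom.id K A) e'' = e := by
      rw [← he', ← AlgHom.comp_apply, ← Algebra.TensorProduct.map_comp]
      rfl
    have hid : IsIdempotentElem e'' := GeomSep.map_intermediateField_injective N (by
      rw [map_mul, hmap, he.eq])
    obtain ⟨c, hc⟩ := idem_mem_range_of_galois hA N hid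
    haveI : Nontrivial (N ⊗[K] A) := (Algebra.TensorProduct.includeRight_injective
      (A := N) (B := A) (algebraMap K N).injective).nontrivial
    have hc' : IsIdempotentElem c := (algebraMap N (N ⊗[K] A)).injective
      ((RingHom.map_mul _ c c).trans (by rw [hc, hid.eq]))
    rw [hUe]
    rcases IsIdempotentElem.iff_eq_zero_or_one.1 hc' with h | h
    · left
      rw [show e = 0 by rw [← hmap, ← hc, h, map_zero, map_zero]]
      simp
    · right
      rw [show e = 1 by rw [← hmap, ← hc, h, map_one, map_one]]
      simp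
  exact GeomSep.geometricallyConnected_of_isSepClosed Ks L

/-- Without separable elements, base change creates none. -/
theorem sepElems_tensor_eq_bot (hA : sepElems K A = ⊥) [Nontrivial A] (L : Type u) [Field L] [Algebra K L] :
    sepElems L (L ⊗[K] A) = ⊥ := by
  refine eq_bot_iff.2 fun y hy => ?_
  let Ω := AlgebraicClosure L
  let f : L ⊗[K] A →ₐ[L] Ω ⊗[K] A :=
    Algebra.TensorProduct.map (Algebra.ofId L Ω) (AlgHom.id K A)
  haveI := connectedSpace_tensor_of_sepElems_eq_bot hA Ω
  haveI : Nontrivial (Ω ⊗[K] A) := PrimeSpectrum.nonempty_iff_nontrivial.1 inferInstance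
  have hf : IsSeparable Ω (f y) := by
    refine Separable.of_dvd (f := (minpoly L y).map (algebraMap L Ω)) (Separable.map hy) (minpoly.dvd Ω _ ?_)
    rw [aeval_map_algebraMap, aeval_algHom_apply, minpoly.aeval, map_zero]
  haveI := weaklyEtale_max (K := Ω) (A := Ω ⊗[K] A)
  haveI : Nontrivial (EtAlgD.maxWeaklyEtale Ω (Ω ⊗[K] A)) := ⟨⟨0, 1, fun h => zero_ne_one (congrArg Subtype.val h)⟩⟩
  have hbij := WEtLib.algebraMap_bijective_of_isAlgClosed (K := Ω) (R := EtAlgD.maxWeaklyEtale Ω (Ω ⊗[K] A))
    fun e he => (CAlgOdd.GLChar.eq_zero_or_one_of_isIdempotentElem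
      (he.map (EtAlgD.maxWeaklyEtale Ω (Ω ⊗[K] A)).val)).imp (fun h => Subtype.ext h) (fun h => Subtype.ext h)
  obtain ⟨r, hr⟩ := hbij.2 ⟨f y, by rw [maxWeaklyEtale_eq]; exact hf⟩
  have hr' : r ⊗ₜ[K] (1 : A) = f y := congrArg Subtype.val hr
  obtain ⟨φ, hφ⟩ := (Algebra.linearMap K A).exists_leftInverse_of_injective
    (LinearMap.ker_eq_bot.2 (algebraMap K A).injective)
  have hφ1 : φ 1 = 1 := by simpa using LinearMap.congr_fun hφ 1
  let ψ : ∀ (M : Type u) [Field M] [Algebra K M], M ⊗[K] A →ₗ[K] M := fun M _ _ =>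
    (TensorProduct.rid K M).toLinearMap.comp (φ.lTensor M)
  have hnat : ∀ z, ψ Ω (f z) = algebraMap L Ω (ψ L z) := fun z => by
    induction z using TensorProduct.induction_on with
    | zero => simp
    | tmul l a => simp [ψ, f, Algebra.smul_def, IsScalarTower.algebraMap_apply K L Ω]
    | add x z hx hz => simp only [map_add, hx, hz]
  have hrψ : r = algebraMap L Ω (ψ L y) := by
    rw [← hnat, ← hr']
    simp [ψ, hφ1]
  have hinj : Function.Injective f := Module.Flat.rTensor_preserves_injective_linearMap (M := A)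
    ((Algebra.ofId L Ω).restrictScalars K).toLinearMap (algebraMap L Ω).injective
  refine Algebra.mem_bot.2 ⟨ψ L y, hinj ?_⟩
  rw [AlgHom.commutes, ← hr', hrψ]
  rfl

end Groth.Agent.WEt93
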